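import Cfsg.Agent.QdSection.SL2Copy
import Cfsg.Agent.SL2.Sylow
import Cfsg.Agent.BaerSuzuki.Basic

/-!
Dickson's theorem for `SL(2)`: a finite subgroup with more than one Sylow `p`-subgroup contains a copy of
`SL(2, p)`.
-/

set_option autoImplicit false

namespace CfsgLib.QdSection

open Matrix

variable {p : ℕ} [hpf : Fact p.Prime]

/-- A `p`-element of `SL(2)` in characteristic `p` has order dividing `p`. -/
theorem pow_eq_one_of_pow_pow {K : Type*} [Field K] [CharP K p] {x : SpecialLinearGroup (Fin 2) K} {k : ℕ}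
    (h : x ^ p ^ k = 1) : x ^ p = 1 := by
  set M : Matrix (Fin 2) (Fin 2) K := (x : Matrix (Fin 2) (Fin 2) K) - 1 with hM
  have hMp : M ^ p ^ k = 0 := by
    rw [hM, sub_pow_char_pow_of_commute (p := p) k (Commute.one_right _), one_pow, sub_eq_zero]
    exact congrArg Subtype.val h
  have hdet : M.det = 0 := by
    have := congrArg Matrix.det hMp
    rw [Matrix.det_pow, Matrix.det_zero] at this
    exact eq_zero_of_pow_eq_zero this
  have htr : M.trace = 0 := (Matrix.isNilpotent_trace_of_isNilpotent ⟨p ^ k, hMp⟩).eq_zero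
  rw [Matrix.det_fin_two] at hdet
  rw [Matrix.trace_fin_two] at htr
  have h2 : M ^ 2 = 0 := by
    ext i j
    fin_cases i <;> fin_cases j <;> simp [pow_two, Matrix.mul_apply, Fin.sum_univ_two]
    · linear_combination M 0 0 * htr - hdet
    · linear_combination M 0 1 * htr
    · linear_combination M 1 0 * htr
    · linear_combination M 1 1 * htr - hdet
  have hp0 : M ^ p = 0 := pow_eq_zero_of_le hpf.out.two_le h2
  rw [hM, sub_pow_char_of_commute (p := p) (Commute.one_right _), one_pow, sub_eq_zero] at hp0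
  exact Subtype.ext hp0

/-- A finite subgroup of `SL(2)` over an algebraically closed field of characteristic `p` with more than one
Sylow `p`-subgroup contains a copy of `SL(2, p)`. -/
theorem exists_sl2_hom_of_sylow {K : Type*} [Field K] [IsAlgClosed K] [CharP K p] (hp : p ≠ 2)
    {H : Subgroup (SpecialLinearGroup (Fin 2) K)} [Finite H] (hH : 1 < Nat.card (Sylow p H)) :
    ∃ f : SpecialLinearGroup (Fin 2) (ZMod p) →* SpecialLinearGroup (Fin 2) K,
      Function.Injective f ∧ f.range ≤ H := by
  by_contra hcon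
  have key : ∀ x : H, x ^ p = 1 → x ∈ Cfsg.pCore p H := by
    intro x hx
    refine CfsgLib.BaerSuzuki.mem_pCore x fun g => ?_
    set T : Subgroup H := Subgroup.closure {x, g * x * g⁻¹} with hT
    by_contra hnp
    set X := T.map H.subtype with hX
    haveI : Finite X := Finite.of_equiv _ (T.equivMapOfInjective H.subtype H.subtype_injective).toEquiv
    obtain ⟨f, hf, hle⟩ := exists_sl2_hom_of_closure (p := p) hp (X := X)
      (u := (x : SpecialLinearGroup (Fin 2) K)) (v := ((g * x * g⁻¹ : H) : SpecialLinearGroup (Fin 2) K))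
      (by rw [hX, hT, MonoidHom.map_closure, Set.image_pair]; rfl)
      (by exact_mod_cast congrArg Subtype.val hx)
      (by
        have : (g * x * g⁻¹) ^ p = 1 := by rw [conj_pow, hx, mul_one, mul_inv_cancel]
        exact_mod_cast congrArg Subtype.val this)
      (fun h => hnp (h.of_equiv (T.equivMapOfInjective H.subtype H.subtype_injective).symm))
    exact hcon ⟨f, hf, hle.trans (Subgroup.map_subtype_le T)⟩
  haveI : (Cfsg.pCore p H).Normal := Subgroup.sSup_normal _ fun _ h => h.1
  have hle : ∀ P : Sylow p H, (P : Subgroup H) = Cfsg.pCore p H := by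
    intro P
    have h1 : (P : Subgroup H) ≤ Cfsg.pCore p H := by
      intro x hx
      obtain ⟨k, hk⟩ := P.isPGroup' ⟨x, hx⟩
      refine key x (Subtype.ext ?_)
      have h2 : ((x : SpecialLinearGroup (Fin 2) K)) ^ p ^ k = 1 := by
        simpa using congrArg (fun y : (P : Subgroup H) => ((y : H) : SpecialLinearGroup (Fin 2) K)) hk
      exact_mod_cast pow_eq_one_of_pow_pow h2
    exact (P.is_maximal' (Sylow.sSup_of_normal _ (fun _ h => h.2) (fun _ h => h.1)) h1).symm
  haveI : Subsingleton (Sylow p H) := ⟨fun P Q => Sylow.ext ((hle P).trans (hle Q).symm)⟩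
  exact absurd hH (not_lt.2 (Finite.card_le_one_iff_subsingleton.2 ‹_›))

/-- Dickson: a subgroup of `SL(2, F)` with more than one Sylow `p`-subgroup contains a copy of `SL(2, p)`. -/
theorem exists_equiv_sl2_of_sylow {F : Type*} [Field F] [Finite F] [CharP F p] (hp : p ≠ 2)
    (H : Subgroup (SpecialLinearGroup (Fin 2) F)) (hH : 1 < Nat.card (Sylow p H)) :
    ∃ L : Subgroup (SpecialLinearGroup (Fin 2) F), L ≤ H ∧
      Nonempty (L ≃* SpecialLinearGroup (Fin 2) (ZMod p)) := by
  set ι := SpecialLinearGroup.map (n := Fin 2) (algebraMap F (AlgebraicClosure F)) with hι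
  haveI : CharP (AlgebraicClosure F) p := charP_of_injective_algebraMap (algebraMap F (AlgebraicClosure F)).injective p
  have hinj : Function.Injective ι := by
    intro a b hab
    apply Subtype.ext
    ext i j
    exact (algebraMap F (AlgebraicClosure F)).injective
      (congrArg (fun m : SpecialLinearGroup (Fin 2) (AlgebraicClosure F) => m.1 i j) hab)
  let e := H.equivMapOfInjective ι hinj
  haveI : Finite (H.map ι) := Finite.of_equiv _ e.toEquiv
  have hH' : 1 < Nat.card (Sylow p (H.map ι)) := by
    haveI : Nontrivial (Sylow p H) := Finite.one_lt_card_iff_nontrivial.1 hH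
    obtain ⟨P, Q, hPQ⟩ := exists_pair_ne (Sylow p H)
    haveI : Nontrivial (Sylow p (H.map ι)) := ⟨⟨P.mapSurjective e.surjective, Q.mapSurjective e.surjective, fun h => hPQ (Sylow.ext
      (Subgroup.map_injective (f := e.toMonoidHom) e.injective (congrArg (fun S : Sylow p (H.map ι) => (S : Subgroup (H.map ι))) h)))⟩⟩
    exact Finite.one_lt_card
  obtain ⟨f, hf, hle⟩ := exists_sl2_hom_of_sylow hp hH'
  have hmap : ((f.range).comap ι).map ι = f.range :=
    Subgroup.map_comap_eq_self (hle.trans (Subgroup.map_le_range ι H))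
  refine ⟨f.range.comap ι, fun x hx => ?_, ⟨(((f.range.comap ι).equivMapOfInjective ι hinj).trans
    (MulEquiv.subgroupCongr hmap)).trans (MonoidHom.ofInjective hf).symm⟩⟩
  obtain ⟨y, hy, hxy⟩ := hle hx
  exact hinj hxy ▸ hy

/-- The Sylow 2-subgroups of such a subgroup are generalised quaternion. -/
theorem sylow_two_quaternion_of_sylow {F : Type*} [Field F] [Fintype F] [CharP F p] (hp : p ≠ 2)
    (H : Subgroup (SpecialLinearGroup (Fin 2) F)) (hH : 1 < Nat.card (Sylow p H)) (S : Sylow 2 H) :
    ∃ k : ℕ, 1 ≤ k ∧ Nonempty ((S : Subgroup H) ≃* QuaternionGroup (2 ^ k)) := by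
  haveI : Fact (Nat.Prime 2) := ⟨Nat.prime_two⟩
  have h2 : (2 : F) ≠ 0 := Ring.two_ne_zero (by rwa [ringChar.eq F p])
  have h2' : (2 : ZMod p) ≠ 0 := Ring.two_ne_zero (by rwa [ringChar.eq (ZMod p) p])
  refine (CfsgLib.TwoGroup.cyclic_or_quaternion S.isPGroup'
    (((CfsgLib.SL2.atMostOneInvolution h2).subgroup H).subgroup _)).resolve_left fun hc => ?_
  obtain ⟨L, hL, ⟨eL⟩⟩ := exists_equiv_sl2_of_sylow hp H hH
  obtain ⟨T⟩ : Nonempty (Sylow 2 (SpecialLinearGroup (Fin 2) (ZMod p))) := inferInstance
  refine CfsgLib.SL2.sylow_two_not_isCyclic h2' T ?_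
  let j : SpecialLinearGroup (Fin 2) (ZMod p) →* H := (Subgroup.inclusion hL).comp eL.symm.toMonoidHom
  have hj : Function.Injective j := (Subgroup.inclusion_injective hL).comp eL.symm.injective
  obtain ⟨R, hR⟩ := (T.isPGroup'.map j).exists_le_sylow
  obtain ⟨g, rfl⟩ := MulAction.exists_smul_eq H S R
  have hcR : IsCyclic ((g • S : Sylow 2 H) : Subgroup H) :=
    isCyclic_of_surjective _ ((Sylow.equiv S (g • S : Sylow 2 H)).surjective)
  let eT := (T : Subgroup (SpecialLinearGroup (Fin 2) (ZMod p))).equivMapOfInjective j hj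
  exact isCyclic_of_injective ((Subgroup.inclusion hR).comp eT.toMonoidHom)
    ((Subgroup.inclusion_injective hR).comp eT.injective)

end CfsgLib.QdSection
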